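import Cfsg.Agent.H421.HT.Tri
import Cfsg.Agent.H778.ExcTwSix
import Cfsg.Agent.H778.ExcFin

/-!
# Two nonabelian pairs in exceptional groups (S4933, `a ≥ 2`)

* `pairs_core` : `X₁`, `X₂` act on the torus as `c₁`, `c₂` (commuting `p`-elements of the Weyl group), `v₁`, `v₂` are
  torus elements, `v₁` is moved by `c₁` and fixed by `c₂`, `v₂` is moved by `c₂` and fixed by `c₁`: `TwoPair`;
* `pairs_lang` : the same from the twisted torus;
* `PCert` : certificates (lists of integers);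
* `tp_F4`, `tp_E6`, `tp_tE6`, `tp_E7`, `tp_E8`.
-/

set_option autoImplicit false
set_option linter.unusedSectionVars false

namespace Cfsg.Agent.H421.HT

open CoxeterSystem Cfsg Cfsg.Lie Cfsg.Lie.ChevalleyDatum
open Cfsg.Agent.ChevalleyStructure Cfsg.Agent.ChevalleyStructure.Elts Cfsg.Agent.ChevalleyStructure.CoxeterGeom
  Cfsg.Agent.ChevalleyStructure.CoxeterGeomTypes Cfsg.Agent.ChevalleyStructure.NPerm
  Cfsg.Agent.ChevalleyStructure.RootVec
open Cfsg.Agent.Tits.Roots Cfsg.Agent.Tits.Core Cfsg.Agent.Nodes Cfsg.Agent.Nodes.Reps Cfsg.Agent.Nodes.BNOf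
  Cfsg.Agent.Nodes.RGDChev Cfsg.Agent.Nodes.Bruhat
open Cfsg.Agent.KFacts.RgdField Cfsg.Agent.KFacts.RgdChevCoord Cfsg.Agent.BpExc.TorCent Cfsg.Agent.BpExc.TorChev
open Cfsg.Agent.GpExc.Field Cfsg.Agent.BpExc.Tow Cfsg.Agent.BpExc.TowChev Cfsg.Agent.BpExc.Fr
  Cfsg.Agent.BpExc.LangFr Cfsg.Agent.LangThm Cfsg.Agent.BpExc Cfsg.Agent.H129.TorusChar Cfsg.Agent.H129.TorusMain
  Cfsg.Agent.H129.TorusUntw Cfsg.Agent.ChevStructure.FieldMap Cfsg.Agent.BpExc.EmbSplit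
open Cfsg.Agent.H573 Cfsg.Agent.H130.WeylTab Cfsg.Agent.H130.WeylCk Cfsg.Agent.H778.Exc
open Cfsg.Agent.ChevalleyStructure.TwE6Basic (hE6 sg exists_frob)
open Cfsg.Agent.ChevalleyStructure.TwE6BN (PairOK SingleOK single0 single1 pair2 pair3)

universe u v

/-- a Sylow subgroup containing a normal `p`-subgroup and covering a `p`-quotient -/
theorem exists_cover {G1 : Type*} [Group G1] [Finite G1] {p : ℕ} [Fact p.Prime] (N2 : Subgroup G1) [N2.Normal]
    (hq : ∀ x : G1, ∃ m : ℕ, x ^ p ^ m ∈ N2) (V : Subgroup G1) [V.Normal] (hV : IsPGroup p V) :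
    ∃ R : Subgroup G1, IsPGroup p R ∧ V ≤ R ∧ ∀ x : G1, ∃ z ∈ N2, x * z ∈ R := by
  obtain ⟨R, hR⟩ := hV.exists_le_sylow
  refine ⟨R, R.isPGroup', hR, ?_⟩
  have h1 : IsPGroup p (G1 ⧸ N2) := by
    intro y
    obtain ⟨x, rfl⟩ := QuotientGroup.mk_surjective y
    obtain ⟨m, hm⟩ := hq x
    exact ⟨m, by rw [← QuotientGroup.mk_pow]; exact (QuotientGroup.eq_one_iff _).2 hm⟩
  obtain ⟨n, hn⟩ := IsPGroup.iff_card.1 h1
  have h2 : N2.index = p ^ n := by rw [Subgroup.index_eq_card, hn]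
  have h3 : ¬ p ∣ (R : Subgroup G1).index := R.not_dvd_index
  have h4 : ((R : Subgroup G1) ⊔ N2).index ∣ p ^ n := by
    rw [← h2]; exact Subgroup.index_dvd_of_le le_sup_right
  have h5 : ((R : Subgroup G1) ⊔ N2).index ∣ (R : Subgroup G1).index := Subgroup.index_dvd_of_le le_sup_left
  have h6 : (R : Subgroup G1) ⊔ N2 = ⊤ := by
    rw [← Subgroup.index_eq_one]
    obtain ⟨m, -, hm⟩ := (Nat.dvd_prime_pow (Fact.out : p.Prime)).1 h4
    rw [hm]
    rcases Nat.eq_zero_or_pos m with rfl | h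
    · rw [pow_zero]
    · exact absurd ((dvd_pow_self p h.ne').trans (hm ▸ h5)) h3
  intro x
  have h7 : x ∈ (R : Subgroup G1) ⊔ N2 := by rw [h6]; exact Subgroup.mem_top x
  rw [Subgroup.mem_sup_of_normal_right] at h7
  obtain ⟨y, hy, z, hz, rfl⟩ := h7
  exact ⟨z⁻¹, N2.inv_mem hz, by rw [mul_inv_cancel_right]; exact hy⟩

/-- the inverse in a finite group -/
theorem inv_eq_pow {G : Type*} [Group G] [Finite G] (x : G) : x⁻¹ = x ^ (orderOf x - 1) := by
  have h1 : x ^ (orderOf x - 1) * x = 1 := by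
    rw [← pow_succ, Nat.sub_add_cancel (orderOf_pos x), pow_orderOf_eq_one]
  exact (eq_inv_of_mul_eq_one_left h1).symm

section Core

variable {D : ChevalleyDatum} {l : ℕ} {M : CoxeterMatrix (Fin l)} (hp : IsType D l M)
  {W : Type*} [Group W] (cs : CoxeterSystem M W) {k : Type u} [Field k] {p : ℕ} [Fact p.Prime] {ζ : k}
  (hζ : orderOf ζ = p)

include hζ in
theorem act_iff {c : W} {X t : ↥(D.group k)} (hact : AAct hp cs c X) (ht : t ∈ TT D k) {b : Fin l → ZMod p}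
    (hb : ∀ x, cX hp t x = zz ζ (ev b x)) : X * t = t * X ↔ pull cs hp.isCartan b c = b := by
  constructor
  · intro h
    funext i
    show ev b (rep cs hp.isCartan c (sr i)) = b i
    have h2 : X * t * X⁻¹ = t := by rw [h]; group
    have h3 := hact.2 _ ht (sr i)
    rw [h2, hb, hb, zz_inj hζ, ev_sr] at h3
    exact h3
  · intro h
    have h2 : X * t * X⁻¹ = t := by
      refine cX_inj hp (hact.1 t ht) ht fun i => ?_
      have h4 : (sr i : Fin l → ℤ) = rep cs hp.isCartan c (rep cs hp.isCartan c⁻¹ (sr i)) := by rw [rep_apply_inv]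
      rw [h4, hact.2 t ht, hb, hb, ← ev_pull cs hp.isCartan b c, h]
    calc X * t = X * t * X⁻¹ * X := by group
      _ = t * X := by rw [h2]

variable {hp cs} in
theorem aact_one_of {c : W} {X : ↥(D.group k)} (h : AAct hp cs c X) (h1 : AAct hp cs c (1 : ↥(D.group k))) :
    AAct hp cs (1 : W) X := by
  refine ⟨h.1, fun t ht x => ?_⟩
  rw [map_one, Module.End.one_apply]
  have h2 := h1.2 _ (h.1 t ht) x
  rw [one_mul, inv_one, mul_one] at h2
  rw [← h2, h.2 t ht]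

include hζ in
/-- **The core.** -/
theorem pairs_core (hk : LocFin k) (r : ℕ) [Fact r.Prime] [CharP k r] {G0 : Type v} [Group G0] [Finite G0]
    {ψ : G0 →* ↥(D.group k)} (hψ : Function.Injective ψ) {c1 c2 : W} (hcc : Commute c1 c2) {j : ℕ}
    (hc1 : c1 ^ p ^ j = 1) (hc2 : c2 ^ p ^ j = 1) {X1 X2 : G0} (hX1 : AAct hp cs c1 (ψ X1))
    (hX2 : AAct hp cs c2 (ψ X2)) {b1 b2 : Fin l → ZMod p} {v1 v2 : G0} (hv1 : ψ v1 ∈ TT D k)
    (hb1 : ∀ x, cX hp (ψ v1) x = zz ζ (ev b1 x)) (hv2 : ψ v2 ∈ TT D k) (hb2 : ∀ x, cX hp (ψ v2) x = zz ζ (ev b2 x))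
    (e11 : pull cs hp.isCartan b1 c1 ≠ b1) (e12 : pull cs hp.isCartan b1 c2 = b1)
    (e21 : pull cs hp.isCartan b2 c1 = b2) (e22 : pull cs hp.isCartan b2 c2 ≠ b2) : TwoPair p G0 := by
  -- the normaliser part
  let N1 : Subgroup G0 :=
    { carrier := {y | ∃ i i' : ℕ, AAct hp cs (c1 ^ i * c2 ^ i') (ψ y)}
      one_mem' := ⟨0, 0, by rw [pow_zero, pow_zero, mul_one, map_one]; exact AAct.one⟩
      mul_mem' := by
        rintro x y ⟨i, i', hx⟩ ⟨m, m', hy⟩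
        refine ⟨i + m, i' + m', ?_⟩
        have h1 := hx.mul hy
        rw [← map_mul] at h1
        have h2 : c1 ^ (i + m) * c2 ^ (i' + m') = c1 ^ i * c2 ^ i' * (c1 ^ m * c2 ^ m') := by
          have h3 : c2 ^ i' * c1 ^ m = c1 ^ m * c2 ^ i' := (hcc.pow_pow m i').eq.symm
          calc c1 ^ (i + m) * c2 ^ (i' + m') = c1 ^ i * (c1 ^ m * c2 ^ i') * c2 ^ m' := by
                rw [pow_add, pow_add]; group
            _ = c1 ^ i * (c2 ^ i' * c1 ^ m) * c2 ^ m' := by rw [h3]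
            _ = _ := by group
        rw [h2]
        exact h1
      inv_mem' := by
        rintro x ⟨i, i', hx⟩
        have h1 := hx.pow (orderOf x - 1)
        rw [← map_pow, ← inv_eq_pow, ((hcc.pow_pow i i').mul_pow), ← pow_mul, ← pow_mul] at h1
        exact ⟨_, _, h1⟩ }
  have hN1 : ∀ {y : G0}, y ∈ N1 ↔ ∃ i i' : ℕ, AAct hp cs (c1 ^ i * c2 ^ i') (ψ y) := Iff.rfl
  let N2 : Subgroup ↥N1 :=
    { carrier := {y | AAct hp cs (1 : W) (ψ y)}
      one_mem' := by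
        show AAct hp cs (1 : W) (ψ 1)
        rw [map_one]
        exact AAct.one
      mul_mem' := by
        intro x y hx hy
        have h1 := AAct.mul hx hy
        rw [← map_mul, one_mul] at h1
        exact h1
      inv_mem' := by
        intro x hx
        have h1 := AAct.pow hx (orderOf (x : G0) - 1)
        rw [← map_pow, ← inv_eq_pow, one_pow] at h1
        exact h1 }
  have hN2 : ∀ {y : ↥N1}, y ∈ N2 ↔ AAct hp cs (1 : W) (ψ y) := Iff.rfl
  have hN2n : N2.Normal := ⟨by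
    rintro y hy ⟨g, i, i', hg⟩
    have h1 := AAct.mul (AAct.mul hg hy) (hg.pow (orderOf g - 1))
    have h2 := hg.pow (orderOf g)
    rw [← map_pow, pow_orderOf_eq_one, map_one] at h2
    rw [← map_pow, ← inv_eq_pow, ← map_mul, ← map_mul, mul_one, ← pow_succ', Nat.sub_add_cancel (orderOf_pos g)] at h1
    exact aact_one_of h1 h2⟩
  let V0 : Subgroup ↥N1 :=
    { carrier := {y | ψ y ∈ TT D k ∧ y ^ p = 1}
      one_mem' := ⟨by
        show ψ 1 ∈ TT D k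
        rw [map_one]
        exact one_mem _, one_pow p⟩
      mul_mem' := by
        rintro x y ⟨hx, hx1⟩ ⟨hy, hy1⟩
        refine ⟨by
          show ψ (x * y) ∈ TT D k
          rw [map_mul]
          exact mul_mem hx hy, ?_⟩
        have hxy : Commute x y := by
          apply Subtype.ext
          apply hψ
          show ψ (x * y) = ψ (y * x)
          rw [map_mul, map_mul]
          exact TT_comm hp _ hx _ hy
        rw [hxy.mul_pow, hx1, hy1, one_mul]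
      inv_mem' := by
        rintro x ⟨hx, hx1⟩
        exact ⟨by
          show ψ (x : G0)⁻¹ ∈ TT D k
          rw [map_inv]
          exact inv_mem hx, by rw [inv_pow, hx1, inv_one]⟩ }
  have hV0n : V0.Normal := ⟨by
    rintro y ⟨hy, hy1⟩ ⟨g, i, i', hg⟩
    refine ⟨?_, by rw [conj_pow, hy1, mul_one, mul_inv_cancel]⟩
    show ψ (g * y * g⁻¹) ∈ TT D k
    rw [map_mul, map_mul, map_inv]
    exact hg.1 _ hy⟩
  have hV0 : IsPGroup p ↥V0 := fun y => ⟨1, by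
    rw [pow_one]
    exact Subtype.ext y.2.2⟩
  obtain ⟨R, hR, hVR, hcov⟩ := exists_cover N2 (fun x => by
    obtain ⟨i, i', hx⟩ := x.2
    refine ⟨j, ?_⟩
    have h1 := hx.pow (p ^ j)
    have h2 : (c1 ^ i * c2 ^ i') ^ p ^ j = 1 := by
      rw [(hcc.pow_pow i i').mul_pow, ← pow_mul, ← pow_mul, mul_comm i, mul_comm i', pow_mul, pow_mul, hc1, hc2,
        one_pow, one_pow, one_mul]
    rw [← map_pow, h2] at h1
    exact h1) V0 hV0
  have hX1m : X1 ∈ N1 := ⟨1, 0, by rw [pow_one, pow_zero, mul_one]; exact hX1⟩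
  have hX2m : X2 ∈ N1 := ⟨0, 1, by rw [pow_one, pow_zero, one_mul]; exact hX2⟩
  obtain ⟨z1, hz1, hR1⟩ := hcov ⟨X1, hX1m⟩
  obtain ⟨z2, hz2, hR2⟩ := hcov ⟨X2, hX2m⟩
  have hY1 : AAct hp cs c1 (ψ (X1 * z1)) := by
    have h1 := hX1.mul hz1
    rwa [← map_mul, mul_one] at h1
  have hY2 : AAct hp cs c2 (ψ (X2 * z2)) := by
    have h1 := hX2.mul hz2
    rwa [← map_mul, mul_one] at h1
  have hvm : ∀ {v : G0}, ψ v ∈ TT D k → v ∈ N1 := fun hv =>
    ⟨0, 0, by rw [pow_zero, pow_zero, mul_one]; exact aact_torus hk r hv⟩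
  have hvp : ∀ {v : G0} {b : Fin l → ZMod p}, ψ v ∈ TT D k → (∀ x, cX hp (ψ v) x = zz ζ (ev b x)) → v ^ p = 1 :=
    fun hv hb => hψ (by rw [map_pow, map_one]; exact pow_eq_one_of_fun hp hζ hv hb)
  have hv1R : (⟨v1, hvm hv1⟩ : ↥N1) ∈ R := hVR ⟨hv1, Subtype.ext (hvp hv1 hb1)⟩
  have hv2R : (⟨v2, hvm hv2⟩ : ↥N1) ∈ R := hVR ⟨hv2, Subtype.ext (hvp hv2 hb2)⟩
  have hcomm : ∀ {Y v : G0}, Y * v = v * Y ↔ ψ Y * ψ v = ψ v * ψ Y := fun {Y v} => by
    rw [← map_mul, ← map_mul]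
    exact hψ.eq_iff.symm
  refine ⟨R.map N1.subtype, hR.map _, v1, ⟨_, hv1R, rfl⟩, X1 * z1, ⟨_, hR1, rfl⟩, v2, ⟨_, hv2R, rfl⟩, X2 * z2,
    ⟨_, hR2, rfl⟩, fun h => e11 ?_, fun h => e22 ?_, ?_, ?_, ?_⟩
  · exact (act_iff hp cs hζ hY1 hv1 hb1).1 (hcomm.1 h.symm)
  · exact (act_iff hp cs hζ hY2 hv2 hb2).1 (hcomm.1 h.symm)
  · exact hcomm.2 (TT_comm hp _ hv1 _ hv2)
  · exact (hcomm.2 ((act_iff hp cs hζ hY2 hv1 hb1).2 e12)).symm
  · exact hcomm.2 ((act_iff hp cs hζ hY1 hv2 hb2).2 e21)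

end Core


section Lang

variable {D : ChevalleyDatum} {l : ℕ} {M : CoxeterMatrix (Fin l)} (hp : IsType D l M)
  {W : Type*} [Group W] (cs : CoxeterSystem M W) {k : Type u} [Field k] {r e : ℕ} [Fact r.Prime] [CharP k r]
  {σ : MulAut ↥(D.group k)} {g : (Fin l → ℤ) ≃+ (Fin l → ℤ)} {p : ℕ} [Fact p.Prime] {ζ : k} (hζ : orderOf ζ = p)

include hζ in
/-- **Two pairs from the twisted torus.** -/
theorem pairs_lang [IsAlgClosed k] (hk : LocFin k) (he : 0 < e) (hσ : IsFrob r e σ)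
    (F : Fr cs hp.isCartan (TT D k) (XX D l k) σ g) {d : ℕ} {B : Fin l → Fin l → ℤ} (hB : InvC D l d B) (hd : d ≠ 0)
    {G0 : Type v} [Group G0] [Finite G0] {e0 : G0 →* ↥(D.group k)} (he0 : Function.Injective e0)
    (hrange : ∀ y, σ y = y → (∃ j : ℕ, y ^ p ^ j = 1) → y ∈ e0.range) (w : W)
    (hsep : Sep cs hp.isCartan (VT hp cs p w g (r ^ e))) {c1 c2 : W} (hcc : Commute c1 c2) {j : ℕ}
    (hc1 : c1 ^ p ^ j = 1) (hc2 : c2 ^ p ^ j = 1)
    (hθ1 : ∀ x, rep cs hp.isCartan c1 (theta hp cs w g x) = theta hp cs w g (rep cs hp.isCartan c1 x))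
    (hθ2 : ∀ x, rep cs hp.isCartan c2 (theta hp cs w g x) = theta hp cs w g (rep cs hp.isCartan c2 x))
    {b1 b2 : Fin l → ZMod p} (hb1 : b1 ∈ VT hp cs p w g (r ^ e)) (hb2 : b2 ∈ VT hp cs p w g (r ^ e))
    (e11 : pull cs hp.isCartan b1 c1 ≠ b1) (e12 : pull cs hp.isCartan b1 c2 = b1)
    (e21 : pull cs hp.isCartan b2 c1 = b2) (e22 : pull cs hp.isCartan b2 c2 ≠ b2) : TwoPair p G0 := by
  have hWf := finite_W hp cs
  let hN : NSys M (TT D k) (nc hp k) := nsys_of_locFin hp cs hk r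
  obtain ⟨n, hn⟩ := exists_rp cs hN w
  obtain ⟨z, hz⟩ := lang_all hp cs he hσ F 1 n
  rw [map_one, one_mul] at hz
  have hσz : σ z = z * n := by rw [hz]; group
  have hconj : ∀ y, σ (z * y * z⁻¹) = z * (n * σ y * n⁻¹) * z⁻¹ := fun y => by
    rw [map_mul, map_mul, map_inv, hσz]; group
  choose! tb htb1 htb2 using fun (b : Fin l → ZMod p) => exists_torus_elt hp hζ hB hd b
  have hτb : ∀ b ∈ VT hp cs p w g (r ^ e), n * σ (tb b) * n⁻¹ = tb b := by
    intro b hb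
    rw [tau_iff hp cs hk hσ F hn (htb1 b)]
    intro x
    rw [htb2, htb2, hb x, zz_natCast_mul hζ]
  let ψ : G0 →* ↥(D.group k) := (MulAut.conj z⁻¹).toMonoidHom.comp e0
  have hψa : ∀ s, ψ s = z⁻¹ * e0 s * z := fun s => by
    show z⁻¹ * e0 s * z⁻¹⁻¹ = _
    rw [inv_inv]
  have hψ : Function.Injective ψ := (MulAut.conj z⁻¹).injective.comp he0
  have hV : ∀ b ∈ VT hp cs p w g (r ^ e), ∃ s : G0, ψ s ∈ TT D k ∧ ∀ x, cX hp (ψ s) x = zz ζ (ev b x) := by
    intro b hb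
    obtain ⟨s, hs⟩ := hrange (z * tb b * z⁻¹) (by rw [hconj, hτb b hb]) ⟨1, by
      rw [pow_one, conj_pow, pow_eq_one_of_fun hp hζ (htb1 b) (htb2 b), mul_one, mul_inv_cancel]⟩
    have h1 : ψ s = tb b := by rw [hψa, hs]; group
    exact ⟨s, by rw [h1]; exact htb1 b, by rw [h1]; exact htb2 b⟩
  have hX : ∀ c : W, c ^ p ^ j = 1 → (∀ x, rep cs hp.isCartan c (theta hp cs w g x) =
      theta hp cs w g (rep cs hp.isCartan c x)) → ∃ x0 : G0, AAct hp cs c (ψ x0) := by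
    intro c hcj hcθ
    obtain ⟨X0, hX0, hA0⟩ := exists_act hp cs hk he hσ F hn hcθ (S := tb '' (VT hp cs p w g (r ^ e)))
      ((Set.toFinite _).image _) (by rintro _ ⟨b, -, rfl⟩; exact htb1 b)
      (fun x hx => by
        obtain ⟨b, hb, hb1⟩ := hsep.exists_ne hx
        exact ⟨_, ⟨b, hb, rfl⟩, by rw [htb2, Ne, zz_eq_one hζ]; exact hb1⟩)
      (fun w hw => hsep.eq_one fun b hb x hx => by
        have h1 := hw _ ⟨b, hb, rfl⟩ x hx
        rwa [htb2, htb2, zz_inj hζ] at h1) hB hd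
    obtain ⟨X, hX, hA, i, hXi⟩ := exists_act_pow hp cs hk hcj hX0 hA0
    obtain ⟨x0, hx0⟩ := hrange (z * X * z⁻¹) (by rw [hconj, hX]) ⟨i, by
      rw [conj_pow, hXi, mul_one, mul_inv_cancel]⟩
    have hψx : ψ x0 = X := by rw [hψa, hx0]; group
    exact ⟨x0, by rw [hψx]; exact hA⟩
  obtain ⟨x1, hx1⟩ := hX c1 hc1 hθ1
  obtain ⟨x2, hx2⟩ := hX c2 hc2 hθ2
  obtain ⟨s1, hs1, hs1'⟩ := hV b1 hb1
  obtain ⟨s2, hs2, hs2'⟩ := hV b2 hb2
  exact pairs_core hp cs hζ hk r hψ hcc hc1 hc2 hx1 hx2 hs1 hs1' hs2 hs2' e11 e12 e21 e22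

end Lang

/-! ### certificates -/

/-- **the certificate** -/
structure PCert (l p : ℕ) (Al : List (List ℤ)) (w1 : List (Fin l)) (q : ℕ) (c1 c2 : List (Fin l)) (n : ℕ)
    (b1 b2 : List ℤ) : Prop where
  l1 : b1.length = l
  l2 : b2.length = l
  v1 : ∀ i : Fin l, (dot (ac Al w1 (bas l i)) b1 - q * b1.getD i 0) % p = 0
  v2 : ∀ i : Fin l, (dot (ac Al w1 (bas l i)) b2 - q * b2.getD i 0) % p = 0
  o1 : ∀ i : Fin l, acn Al c1 n (bas l i) = bas l i
  o2 : ∀ i : Fin l, acn Al c2 n (bas l i) = bas l i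
  com : ∀ i : Fin l, ac Al (c1 ++ c2) (bas l i) = ac Al (c2 ++ c1) (bas l i)
  t1 : ∀ i : Fin l, ac Al (c1 ++ w1) (bas l i) = ac Al (w1 ++ c1) (bas l i)
  t2 : ∀ i : Fin l, ac Al (c2 ++ w1) (bas l i) = ac Al (w1 ++ c2) (bas l i)
  n11 : ∃ i : Fin l, (dot (ac Al c1 (bas l i)) b1 - b1.getD i 0) % p ≠ 0
  f12 : ∀ i : Fin l, (dot (ac Al c2 (bas l i)) b1 - b1.getD i 0) % p = 0
  f21 : ∀ i : Fin l, (dot (ac Al c1 (bas l i)) b2 - b2.getD i 0) % p = 0
  n22 : ∃ i : Fin l, (dot (ac Al c2 (bas l i)) b2 - b2.getD i 0) % p ≠ 0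

section Cert

variable {D : ChevalleyDatum} {l p : ℕ} {Al : List (List ℤ)}
    {M : CoxeterMatrix (Fin l)} (hp : IsType D l M) {W : Type*} [Group W] (cs : CoxeterSystem M W)
    (hA : MatList (cartanOf D l) Al)

include hp hA in
theorem word_pow {c : List (Fin l)} {n : ℕ} (h : ∀ i : Fin l, acn Al c n (bas l i) = bas l i) :
    cs.wordProd c ^ n = 1 := by
  refine eq_one_of_fix cs hp.isCartan _ fun i => ?_
  have h1 := toFn_acn cs hp.isCartan hA c n (bas l i) (length_bas i)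
  rw [h i, toFn_bas] at h1
  rw [map_pow]
  exact h1.symm

include hp hA in
theorem word_comm {c c' : List (Fin l)} (h : ∀ i : Fin l, ac Al (c ++ c') (bas l i) = ac Al (c' ++ c) (bas l i)) :
    Commute (cs.wordProd c) (cs.wordProd c') := by
  have h1 := wordProd_eq hp cs hA h
  rw [CoxeterSystem.wordProd_append, CoxeterSystem.wordProd_append] at h1
  exact h1

include hA in
theorem pull_fa {c : List (Fin l)} {b : List ℤ} (hb : b.length = l) (i : Fin l) :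
    pull cs hp.isCartan (RCert.fa l p b) (cs.wordProd c) i = ((dot (ac Al c (bas l i)) b : ℤ) : ZMod p) := by
  unfold pull
  rw [RCert.rep_bas hp cs hA, ev_toFn (b := RCert.fa l p b) hb (fun _ => rfl) (RCert.length_ac_bas c i)]

include hA in
theorem pull_eq {c : List (Fin l)} {b : List ℤ} (hb : b.length = l)
    (h : ∀ i : Fin l, (dot (ac Al c (bas l i)) b - b.getD i 0) % p = 0) :
    pull cs hp.isCartan (RCert.fa l p b) (cs.wordProd c) = RCert.fa l p b := by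
  funext i
  rw [pull_fa hp cs hA hb]
  have h3 := h i
  rw [← Int.dvd_iff_emod_eq_zero, ← ZMod.intCast_zmod_eq_zero_iff_dvd, Int.cast_sub, sub_eq_zero] at h3
  exact h3

include hA in
theorem pull_ne {c : List (Fin l)} {b : List ℤ} (hb : b.length = l)
    (h : ∃ i : Fin l, (dot (ac Al c (bas l i)) b - b.getD i 0) % p ≠ 0) :
    pull cs hp.isCartan (RCert.fa l p b) (cs.wordProd c) ≠ RCert.fa l p b := by
  intro h1
  obtain ⟨i, hi⟩ := h
  apply hi
  have h2 := congrFun h1 i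
  rw [pull_fa hp cs hA hb] at h2
  rw [← Int.dvd_iff_emod_eq_zero, ← ZMod.intCast_zmod_eq_zero_iff_dvd, Int.cast_sub, sub_eq_zero]
  exact h2

/-- **The untwisted groups.**  `hdF` : `p ∤ d`, or every element of `F` is a `d`-th power. -/
theorem PCert.untw {w1 c1 c2 : List (Fin l)} {q j : ℕ} {b1 b2 : List ℤ} (H : PCert l p Al w1 q c1 c2 (p ^ j) b1 b2)
    (hA : MatList (cartanOf D l) Al) (hsep : Sep cs hp.isCartan (VT hp cs p (cs.wordProd w1) (AddEquiv.refl _) q))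
    [Fact p.Prime] {F : Type u} [Field F] [Fintype F] (hpF : ¬ p ∣ Fintype.card F)
    (hq : ((Fintype.card F : ℕ) : ZMod p) = q) {d : ℕ} {B : Fin l → Fin l → ℤ}
    (hB : InvC D l d B) (hd : d ≠ 0) (hdF : p.Coprime d ∨ ∀ a : F, ∃ b : F, b ^ d = a) :
    TwoPair p ↥(D.group F) := by
  obtain ⟨r, e, hr, hcF, hck, he, hqe, hk⟩ := exists_closure (F := F) rfl
  have hpp : p.Prime := Fact.out
  have hpr : p ≠ r := by
    rintro rfl
    exact hpF (by rw [hqe]; exact dvd_pow_self p he.ne')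
  have hpk : ((p : ℕ) : AlgebraicClosure F) ≠ 0 := by
    rw [Ne, CharP.cast_eq_zero_iff (AlgebraicClosure F) r]
    exact fun h => hpr ((Nat.prime_dvd_prime_iff_eq hr.out hpp).1 h).symm
  have : NeZero ((p : ℕ) : AlgebraicClosure F) := ⟨hpk⟩
  obtain ⟨ζ, hζ'⟩ := HasEnoughRootsOfUnity.exists_primitiveRoot (AlgebraicClosure F) p
  have hζ : orderOf ζ = p := hζ'.eq_orderOf.symm
  have hVT : VT hp cs p (cs.wordProd w1) (AddEquiv.refl _) (r ^ e) =
      VT hp cs p (cs.wordProd w1) (AddEquiv.refl _) q := VT_congr hp cs (by rw [← hqe]; exact hq)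
  have hg : ∀ v : List ℤ, v.length = l → toFn l (id v) = (AddEquiv.refl (Fin l → ℤ)) (toFn l v) ∧
      (id v).length = l := fun v hv => ⟨rfl, hv⟩
  have hth : ∀ c : W, Commute c (cs.wordProd w1) → ∀ x, rep cs hp.isCartan c
      (theta hp cs (cs.wordProd w1) (AddEquiv.refl _) x) =
      theta hp cs (cs.wordProd w1) (AddEquiv.refl _) (rep cs hp.isCartan c x) := by
    intro c hc x
    rw [theta_apply, theta_apply, AddEquiv.refl_apply, AddEquiv.refl_apply, ← rep_mul_apply, hc.eq, rep_mul_apply]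
  refine pairs_lang hp cs hζ hk he (isFrob_phi (D := D) (k := AlgebraicClosure F) (p := r) (e := e))
    (fr_phi (p := r) (e := e) hp cs) hB hd (e0 := emb hp.inList (algebraMap F (AlgebraicClosure F)))
    (emb_injective hp.inList _) (fun y hy hyj => ?_) (cs.wordProd w1) (by rw [hVT]; exact hsep)
    (c1 := cs.wordProd c1) (c2 := cs.wordProd c2) (word_comm hp cs hA H.com) (j := j) (word_pow hp cs hA H.o1)
    (word_pow hp cs hA H.o2) (hth _ (word_comm hp cs hA H.t1)) (hth _ (word_comm hp cs hA H.t2))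
    (b1 := RCert.fa l p b1) (b2 := RCert.fa l p b2)
    (by rw [hVT]; exact MCert.mem_VT hp cs hA hg H.l1 H.v1) (by rw [hVT]; exact MCert.mem_VT hp cs hA hg H.l2 H.v2)
    (pull_ne hp cs hA H.l1 H.n11) (pull_eq hp cs hA H.l1 H.f12) (pull_eq hp cs hA H.l2 H.f21)
    (pull_ne hp cs hA H.l2 H.n22)
  rcases hdF with h | h
  · obtain ⟨i, hi⟩ := hyj
    exact H130.TorEmb.mem_range_of_pow hp cs _ hqe hB hd (Nat.Coprime.pow_left i h) hy hi
  · exact fix_range hp cs _ hqe hB hd h hy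

end Cert

/-! ### the rows -/

theorem pc_F4_1 : PCert 4 3 alF4 [] 1 [3, 2, 1, 2, 0, 1, 2, 3, 2, 1, 2, 0, 1, 2] [0, 1] (3 ^ 1) [0, 0, 0, 1]
    [1, 1, 0, 0] where
  l1 := rfl
  l2 := rfl
  v1 := by decide +kernel
  v2 := by decide +kernel
  o1 := by decide +kernel
  o2 := by decide +kernel
  com := by decide +kernel
  t1 := by decide +kernel
  t2 := by decide +kernel
  n11 := by decide +kernel
  f12 := by decide +kernel
  f21 := by decide +kernel
  n22 := by decide +kernel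

theorem pc_F4_2 : PCert 4 3 alF4 [0, 2, 1, 3, 0, 2, 1, 3, 0, 2, 1, 3, 0, 2, 1, 3, 0, 2, 1, 3, 0, 2, 1, 3] 2
    [3, 2, 1, 2, 0, 1, 2, 3, 2, 1, 2, 0, 1, 2] [0, 1] (3 ^ 1) [0, 0, 0, 1] [1, 1, 0, 0] where
  l1 := rfl
  l2 := rfl
  v1 := by decide +kernel
  v2 := by decide +kernel
  o1 := by decide +kernel
  o2 := by decide +kernel
  com := by decide +kernel
  t1 := by decide +kernel
  t2 := by decide +kernel
  n11 := by decide +kernel
  f12 := by decide +kernel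
  f21 := by decide +kernel
  n22 := by decide +kernel

theorem pc_E6_2 : PCert 6 3 alE6
    [0, 3, 5, 2, 4, 1, 0, 3, 5, 2, 4, 1, 0, 3, 5, 2, 4, 1, 0, 3, 5, 2, 4, 1, 0, 3, 5, 2, 4, 1, 0, 3, 5, 2, 4, 1] 2
    [1, 3, 2, 4, 3, 0, 5, 2, 4, 3, 1, 3, 2, 4, 3, 0, 5, 2, 4, 3] [0, 5, 2, 4] (3 ^ 1) [0, 1, 0, 0, 0, 0]
    [1, 0, 1, 0, 1, 1] where
  l1 := rfl
  l2 := rfl
  v1 := by decide +kernel
  v2 := by decide +kernel
  o1 := by decide +kernel
  o2 := by decide +kernel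
  com := by decide +kernel
  t1 := by decide +kernel
  t2 := by decide +kernel
  n11 := by decide +kernel
  f12 := by decide +kernel
  f21 := by decide +kernel
  n22 := by decide +kernel

theorem pc_E7_1 : PCert 7 3 alE7 [] 1 [0, 2] [4, 5] (3 ^ 1) [0, 0, 1, 0, 0, 0, 0] [0, 0, 0, 0, 0, 1, 0] where
  l1 := rfl
  l2 := rfl
  v1 := by decide +kernel
  v2 := by decide +kernel
  o1 := by decide +kernel
  o2 := by decide +kernel
  com := by decide +kernel
  t1 := by decide +kernel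
  t2 := by decide +kernel
  n11 := by decide +kernel
  f12 := by decide +kernel
  f21 := by decide +kernel
  n22 := by decide +kernel

theorem pc_E7_2 : PCert 7 3 alE7
    [0, 3, 5, 2, 4, 1, 6, 0, 3, 5, 2, 4, 1, 6, 0, 3, 5, 2, 4, 1, 6, 0, 3, 5, 2, 4, 1, 6, 0, 3, 5, 2, 4, 1, 6, 0, 3,
    5, 2, 4, 1, 6, 0, 3, 5, 2, 4, 1, 6, 0, 3, 5, 2, 4, 1, 6, 0, 3, 5, 2, 4, 1, 6] 2
    [0, 2] [4, 5] (3 ^ 1) [0, 0, 1, 0, 0, 0, 0] [0, 0, 0, 0, 0, 1, 0] where
  l1 := rfl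
  l2 := rfl
  v1 := by decide +kernel
  v2 := by decide +kernel
  o1 := by decide +kernel
  o2 := by decide +kernel
  com := by decide +kernel
  t1 := by decide +kernel
  t2 := by decide +kernel
  n11 := by decide +kernel
  f12 := by decide +kernel
  f21 := by decide +kernel
  n22 := by decide +kernel

theorem pc_E8_1 : PCert 8 3 alE8 [] 1 [0, 2] [5, 6] (3 ^ 1) [0, 0, 1, 0, 0, 0, 0, 0] [0, 0, 0, 0, 0, 0, 1, 0] where
  l1 := rfl
  l2 := rfl
  v1 := by decide +kernel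
  v2 := by decide +kernel
  o1 := by decide +kernel
  o2 := by decide +kernel
  com := by decide +kernel
  t1 := by decide +kernel
  t2 := by decide +kernel
  n11 := by decide +kernel
  f12 := by decide +kernel
  f21 := by decide +kernel
  n22 := by decide +kernel

theorem pc_E8_2 : PCert 8 3 alE8
    [0, 3, 5, 7, 2, 4, 1, 6, 0, 3, 5, 7, 2, 4, 1, 6, 0, 3, 5, 7, 2, 4, 1, 6, 0, 3, 5, 7, 2, 4, 1, 6, 0, 3, 5, 7, 2,
    4, 1, 6, 0, 3, 5, 7, 2, 4, 1, 6, 0, 3, 5, 7, 2, 4, 1, 6, 0, 3, 5, 7, 2, 4, 1, 6, 0, 3, 5, 7, 2, 4, 1, 6, 0, 3,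
    5, 7, 2, 4, 1, 6, 0, 3, 5, 7, 2, 4, 1, 6, 0, 3, 5, 7, 2, 4, 1, 6, 0, 3, 5, 7, 2, 4, 1, 6, 0, 3, 5, 7, 2, 4, 1,
    6, 0, 3, 5, 7, 2, 4, 1, 6] 2
    [0, 2] [5, 6] (3 ^ 1) [0, 0, 1, 0, 0, 0, 0, 0] [0, 0, 0, 0, 0, 0, 1, 0] where
  l1 := rfl
  l2 := rfl
  v1 := by decide +kernel
  v2 := by decide +kernel
  o1 := by decide +kernel
  o2 := by decide +kernel
  com := by decide +kernel
  t1 := by decide +kernel
  t2 := by decide +kernel
  n11 := by decide +kernel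
  f12 := by decide +kernel
  f21 := by decide +kernel
  n22 := by decide +kernel

section Rows

variable {F : Type u} [Field F] [Fintype F]

/-- **`F₄(q)`, `p = 3`** -/
theorem tp_F4 (hpF : ¬ 3 ∣ Fintype.card F) : TwoPair 3 ↥(chevF4.group F) := by
  have : Fact (Nat.Prime 3) := ⟨Nat.prime_three⟩
  rcases mod_three hpF with h | h
  · exact pc_F4_1.untw type_F4 CoxeterMatrix.F₄.toCoxeterSystem lists_F4
      (mc_F4_1.sepVT type_F4 CoxeterMatrix.F₄.toCoxeterSystem lists_F4 rootList_F4 (g := AddEquiv.refl _)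
        (fun v hv => ⟨rfl, hv⟩)) hpF h invC_F4 one_ne_zero (Or.inl (by norm_num))
  · exact pc_F4_2.untw type_F4 CoxeterMatrix.F₄.toCoxeterSystem lists_F4
      (mc_F4_2.sepVT type_F4 CoxeterMatrix.F₄.toCoxeterSystem lists_F4 rootList_F4 (g := AddEquiv.refl _)
        (fun v hv => ⟨rfl, hv⟩)) hpF h invC_F4 one_ne_zero (Or.inl (by norm_num))

/-- **`E₆(q)`, `p = 3`, `q ≡ 2 mod 3`** -/
theorem tp_E6 (h : ((Fintype.card F : ℕ) : ZMod 3) = 2) : TwoPair 3 ↥(chevE6.group F) := by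
  have : Fact (Nat.Prime 3) := ⟨Nat.prime_three⟩
  have h0 : ((Fintype.card F : ℕ) : ZMod 3) = (2 : ℕ) := by rw [h]; rfl
  have h2 : Fintype.card F % 3 = 2 := by
    rw [ZMod.natCast_eq_natCast_iff'] at h0
    omega
  refine pc_E6_2.untw type_E6 CoxeterMatrix.E₆.toCoxeterSystem lists_E6
    (mc_E6_2.sepVT type_E6 CoxeterMatrix.E₆.toCoxeterSystem lists_E6 rootList_E6 (g := AddEquiv.refl _)
      (fun v hv => ⟨rfl, hv⟩)) (by omega) h0 invC_E6 three_ne_zero (Or.inr fun a => ?_)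
  have h1 : (Nat.card Fˣ).Coprime 3 := by
    rw [Nat.coprime_comm, Nat.Prime.coprime_iff_not_dvd Nat.prime_three, Nat.card_units, Nat.card_eq_fintype_card]
    omega
  by_cases ha : a = 0
  · exact ⟨0, by rw [ha, zero_pow three_ne_zero]⟩
  · obtain ⟨b, hb⟩ := (powCoprime h1).surjective (Units.mk0 a ha)
    refine ⟨b, ?_⟩
    have h2 := congrArg (fun x : Fˣ => (x : F)) hb
    simpa using h2

/-- **`E₇(q)`, `p = 3`** -/
theorem tp_E7 (hpF : ¬ 3 ∣ Fintype.card F) : TwoPair 3 ↥(chevE7.group F) := by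
  have : Fact (Nat.Prime 3) := ⟨Nat.prime_three⟩
  rcases mod_three hpF with h | h
  · exact pc_E7_1.untw type_E7 CoxeterMatrix.E₇.toCoxeterSystem lists_E7
      (mc_E7_1.sepVT type_E7 CoxeterMatrix.E₇.toCoxeterSystem lists_E7 rootList_E7 (g := AddEquiv.refl _)
        (fun v hv => ⟨rfl, hv⟩)) hpF h invC_E7 two_ne_zero (Or.inl (by norm_num))
  · exact pc_E7_2.untw type_E7 CoxeterMatrix.E₇.toCoxeterSystem lists_E7
      (mc_E7_2.sepVT type_E7 CoxeterMatrix.E₇.toCoxeterSystem lists_E7 rootList_E7 (g := AddEquiv.refl _)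
        (fun v hv => ⟨rfl, hv⟩)) hpF h invC_E7 two_ne_zero (Or.inl (by norm_num))

/-- **`E₈(q)`, `p = 3`** -/
theorem tp_E8 (hpF : ¬ 3 ∣ Fintype.card F) : TwoPair 3 ↥(chevE8.group F) := by
  have : Fact (Nat.Prime 3) := ⟨Nat.prime_three⟩
  rcases mod_three hpF with h | h
  · exact pc_E8_1.untw type_E8 CoxeterMatrix.E₈.toCoxeterSystem lists_E8
      (mc_E8_1.sepVT type_E8 CoxeterMatrix.E₈.toCoxeterSystem lists_E8 rootList_E8 (g := AddEquiv.refl _)
        (fun v hv => ⟨rfl, hv⟩)) hpF h invC_E8 one_ne_zero (Or.inl (by norm_num))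
  · exact pc_E8_2.untw type_E8 CoxeterMatrix.E₈.toCoxeterSystem lists_E8
      (mc_E8_2.sepVT type_E8 CoxeterMatrix.E₈.toCoxeterSystem lists_E8 rootList_E8 (g := AddEquiv.refl _)
        (fun v hv => ⟨rfl, hv⟩)) hpF h invC_E8 one_ne_zero (Or.inl (by norm_num))

end Rows

section TwSix

variable {K : Type} [Field K] {q : ℕ}

/-- **`²E₆(q)`, `p = 3`, `q ≡ 1 mod 3`** -/
theorem tp_tE6 [Fintype K] (hq : IsPrimePow q) (hK : Fintype.card K = q ^ 2)
    (h : ((q : ℕ) : ZMod 3) = 1) : TwoPair 3 ↥(twistedE6 K q) := by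
  have : Fact (Nat.Prime 3) := ⟨Nat.prime_three⟩
  obtain ⟨r, e, hr, hcF, hck, he, hqe, hk⟩ := exists_closure (F := K) rfl
  obtain ⟨φ, hφ, -⟩ := exists_frob hq hK
  obtain ⟨ζ0, hζ0⟩ := exists_root (F := K) (by rw [hK, Nat.cast_pow, h]; norm_num)
  have hζq : ζ0 ^ q = ζ0 := by
    have h' : ((q : ℕ) : ZMod 3) = (1 : ℕ) := by rw [h]; rfl
    rw [ZMod.natCast_eq_natCast_iff'] at h'
    have h1 : q % 3 = 1 := by omega
    conv_lhs => rw [← Nat.div_add_mod q 3, h1]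
    rw [pow_add, pow_mul, ← hζ0, pow_orderOf_eq_one, one_pow, one_mul, pow_one]
  obtain ⟨f, hf⟩ : ∃ f : K →+* AlgebraicClosure K, f = algebraMap K (AlgebraicClosure K) := ⟨_, rfl⟩
  have hζ : orderOf (f ζ0) = 3 := by
    rw [← hζ0]
    exact orderOf_injective f.toMonoidHom f.injective ζ0
  have hne0 : ζ0 ≠ 0 := by
    intro h0
    rw [h0, orderOf_zero] at hζ0
    omega
  have hne : f ζ0 ≠ 0 := (map_ne_zero f).2 hne0
  obtain ⟨s0, s1, s2, s3, s4, s5⟩ := simple_E6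
  have hA := lists_E6
  -- the torus elements
  have r1 : RCert.fa 6 3 [0, 2, 0, -1, 0, 0] ∈ VR type_E6 (f ζ0) (inc6 (q := q) f) := by
    have h1 := hG_single φ hφ single0 hζq
    rw [← s1] at h1
    obtain ⟨s, hs⟩ := inc6_of (q := q) f (x := hc type_E6 1 ζ0) h1
    rw [emb_hc type_E6 f 1 ζ0] at hs
    exact VR.of_zpow hζ (s := s) (by rw [hs]; exact hc_mem type_E6 1 hne)
      (fun i => by rw [hs]; exact cX_hc 1 hne i) (by decide +kernel)
  have r05 : RCert.fa 6 3 [2, 0, -1, 0, -1, 2] ∈ VR type_E6 (f ζ0) (inc6 (q := q) f) := by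
    have h1 := hG_pair φ hφ pair3 ζ0
    rw [← s0, ← s5, hζq] at h1
    obtain ⟨s, hs⟩ := inc6_of (q := q) f (x := hc type_E6 0 ζ0 * hc type_E6 5 ζ0) h1
    rw [map_mul, emb_hc type_E6 f 0 ζ0, emb_hc type_E6 f 5 ζ0] at hs
    refine VR.of_zpow hζ (s := s) (by rw [hs]; exact mul_mem (hc_mem type_E6 0 hne) (hc_mem type_E6 5 hne))
      (n := fun i => cartanOf chevE6 6 0 i + cartanOf chevE6 6 5 i) (fun i => ?_) (by decide +kernel)
    rw [hs, cX_mul type_E6 (hc_mem type_E6 0 hne) (hc_mem type_E6 5 hne), cX_hc 0 hne i, cX_hc 5 hne i,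
      zpow_add₀ hne]
  -- the representatives
  have hwords : ∀ L : List (List (Fin 6)), (∀ w ∈ L, ∃ i : Fin 4, w.map (fun j : Fin 6 => (j : ℕ)) = TwE6Basic.J i) →
      ∃ x0 : ↥(twistedE6 K q), AAct type_E6 CoxeterMatrix.E₆.toCoxeterSystem
        (CoxeterMatrix.E₆.toCoxeterSystem.wordProd L.flatten) (inc6 (q := q) f x0) := fun L hL =>
    aact_words type_E6 CoxeterMatrix.E₆.toCoxeterSystem hk r (inc6 (q := q) f) L fun w hw => by
      obtain ⟨i, hi⟩ := hL w hw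
      obtain ⟨s, hs⟩ := inc6_of (q := q) f (nn_mem hφ i hi)
      exact ⟨s, by rw [hs, emb_nc_prod]⟩
  obtain ⟨x1, hx1⟩ := hwords [[1], [3], [2, 4], [3], [0, 5], [2, 4], [3], [1], [3], [2, 4], [3], [0, 5], [2, 4], [3]]
    (by decide +kernel)
  obtain ⟨x2, hx2⟩ := hwords [[0, 5], [2, 4]] (by decide +kernel)
  obtain ⟨v1, hv1, hv1'⟩ := r1
  obtain ⟨v2, hv2, hv2'⟩ := r05
  exact pairs_core type_E6 CoxeterMatrix.E₆.toCoxeterSystem hζ hk r (inc6_injective f)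
    (word_comm type_E6 _ lists_E6 (by decide +kernel)) (j := 1)
    (word_pow type_E6 _ lists_E6 (n := 3 ^ 1) (by decide +kernel))
    (word_pow type_E6 _ lists_E6 (n := 3 ^ 1) (by decide +kernel)) hx1 hx2 hv1 hv1' hv2 hv2'
    (pull_ne type_E6 _ lists_E6 rfl (by decide +kernel)) (pull_eq type_E6 _ lists_E6 rfl (by decide +kernel))
    (pull_eq type_E6 _ lists_E6 rfl (by decide +kernel)) (pull_ne type_E6 _ lists_E6 rfl (by decide +kernel))

end TwSix

end Cfsg.Agent.H421.HT
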