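import Cfsg.Agent.H421.HT.Pair
import Cfsg.Agent.H681.IP.Row

/-!
# The second derived subgroup of a Sylow subgroup, from the twisted torus (S4933)

* `exists_R` : a `p`-subgroup containing the elements of order `p` of the torus and covering a `p`-subgroup of the
  Weyl group;
* `dd_core` : `⁅⁅v, X₃⁆, ⁅X₁, X₂⁆⁆ ≠ 1`;
* `row3_e7_two`, `row3_e8_two` : the rows `E₇(q)`, `E₈(q)`, `p = 3 ∣ q + 1`.
-/

set_option autoImplicit false
set_option linter.unusedSectionVars false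

namespace Cfsg.Agent.H421.HT

open CoxeterSystem Cfsg Cfsg.Lie Cfsg.Lie.ChevalleyDatum
open Cfsg.Agent.ChevalleyStructure Cfsg.Agent.ChevalleyStructure.Elts Cfsg.Agent.ChevalleyStructure.CoxeterGeom
  Cfsg.Agent.ChevalleyStructure.CoxeterGeomTypes Cfsg.Agent.ChevalleyStructure.NPerm
  Cfsg.Agent.ChevalleyStructure.RootVec
open Cfsg.Agent.Tits.Roots Cfsg.Agent.Tits.Core Cfsg.Agent.Nodes Cfsg.Agent.Nodes.Reps Cfsg.Agent.Nodes.BNOf
  Cfsg.Agent.Nodes.RGDChev Cfsg.Agent.Nodes.Bruhat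
open Cfsg.Agent.KFacts.RgdField Cfsg.Agent.KFacts.RgdChevCoord Cfsg.Agent.BpExc.TorCent Cfsg.Agent.BpExc.TorChev
open Cfsg.Agent.GpExc.Field Cfsg.Agent.BpExc.Tow Cfsg.Agent.BpExc.TowChev Cfsg.Agent.BpExc.Fr
  Cfsg.Agent.BpExc.LangFr Cfsg.Agent.LangThm Cfsg.Agent.BpExc Cfsg.Agent.H129.TorusChar Cfsg.Agent.H129.TorusMain
  Cfsg.Agent.H129.TorusUntw Cfsg.Agent.ChevStructure.FieldMap Cfsg.Agent.BpExc.EmbSplit
open Cfsg.Agent.H573 Cfsg.Agent.H130.WeylTab Cfsg.Agent.H130.WeylCk Cfsg.Agent.H778.Exc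
open scoped commutatorElement

universe u v

/-- a group generated by `y`, `s` with commuting conjugates `y, s y s⁻¹, s² y s⁻²` -/
theorem isPGroup_wr {W : Type*} [Group W] {p : ℕ} [Fact p.Prime] {y s : W} {j : ℕ} (hy : y ^ p ^ j = 1)
    (hs : s ^ p ^ j = 1) (h3 : s * (s * (s * y * s⁻¹) * s⁻¹) * s⁻¹ = y) (c01 : Commute y (s * y * s⁻¹))
    (c02 : Commute y (s * (s * y * s⁻¹) * s⁻¹)) :
    ∃ C : Subgroup W, IsPGroup p C ∧ y ∈ C ∧ s ∈ C := by
  obtain ⟨y1, hy1⟩ : ∃ y1, y1 = s * y * s⁻¹ := ⟨_, rfl⟩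
  obtain ⟨y2, hy2⟩ : ∃ y2, y2 = s * y1 * s⁻¹ := ⟨_, rfl⟩
  have c12 : Commute y1 y2 := by
    have h1 := c01.map (MulAut.conj s).toMonoidHom
    rw [← hy1] at h1
    show Commute y1 y2
    have e1 : (MulAut.conj s).toMonoidHom y = y1 := hy1.symm
    have e2 : (MulAut.conj s).toMonoidHom y1 = y2 := hy2.symm
    rwa [e1, e2] at h1
  rw [← hy1] at c01 c02 h3
  rw [← hy2] at c02 h3
  have hz : ∀ {x : W}, x ^ p ^ j = 1 → IsPGroup p ↥(Subgroup.zpowers x) := by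
    rintro x hx ⟨y, i, rfl⟩
    refine ⟨j, Subtype.ext ?_⟩
    show (x ^ i) ^ p ^ j = 1
    rw [← zpow_natCast, ← zpow_mul, mul_comm, zpow_mul, zpow_natCast, hx, one_zpow]
  have hy1p : y1 ^ p ^ j = 1 := by rw [hy1, conj_pow, hy, mul_one, mul_inv_cancel]
  have hy2p : y2 ^ p ^ j = 1 := by rw [hy2, conj_pow, hy1p, mul_one, mul_inv_cancel]
  have hcn : ∀ {x : W} {K : Subgroup W}, (∀ k ∈ K, Commute x k) → Subgroup.zpowers x ≤ Subgroup.normalizer (K : Set W) := by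
    intro x K h
    rw [Subgroup.zpowers_le, Subgroup.mem_normalizer_iff]
    intro k
    constructor
    · intro hk
      have h1 : x * k * x⁻¹ = k := by rw [(h k hk).eq]; group
      rwa [h1]
    · intro hk
      have h1 := (h _ hk).eq
      have h2 : k = x * k * x⁻¹ := by
        have h3 : x * (x * k * x⁻¹) = x * k := by rw [h1]; group
        exact (mul_left_cancel h3).symm
      rwa [h2]
  have hA : IsPGroup p ↥(Subgroup.zpowers y1 ⊔ Subgroup.zpowers y2) := by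
    refine (hz hy1p).to_sup_of_normal_right' (hz hy2p) (hcn ?_)
    rintro k ⟨i, rfl⟩
    exact c12.zpow_right i
  have hyA : ∀ k ∈ Subgroup.zpowers y1 ⊔ Subgroup.zpowers y2, Commute y k := by
    intro k hk
    have h1 : Subgroup.zpowers y1 ⊔ Subgroup.zpowers y2 ≤ Subgroup.centralizer {y} := by
      rw [sup_le_iff, Subgroup.zpowers_le, Subgroup.zpowers_le]
      exact ⟨Subgroup.mem_centralizer_singleton_iff.2 c01.symm.eq, Subgroup.mem_centralizer_singleton_iff.2 c02.symm.eq⟩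
    exact (Subgroup.mem_centralizer_singleton_iff.1 (h1 hk)).symm
  have hB : IsPGroup p ↥(Subgroup.zpowers y ⊔ (Subgroup.zpowers y1 ⊔ Subgroup.zpowers y2)) :=
    (hz hy).to_sup_of_normal_right' hA (hcn hyA)
  obtain ⟨B, hBd⟩ : ∃ B, B = Subgroup.zpowers y ⊔ (Subgroup.zpowers y1 ⊔ Subgroup.zpowers y2) := ⟨_, rfl⟩
  rw [← hBd] at hB
  have m0 : y ∈ B := by rw [hBd]; exact Subgroup.mem_sup_left (Subgroup.mem_zpowers y)
  have m1 : y1 ∈ B := by
    rw [hBd]; exact Subgroup.mem_sup_right (Subgroup.mem_sup_left (Subgroup.mem_zpowers y1))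
  have m2 : y2 ∈ B := by
    rw [hBd]; exact Subgroup.mem_sup_right (Subgroup.mem_sup_right (Subgroup.mem_zpowers y2))
  have hconj : B.map (MulAut.conj s).toMonoidHom ≤ B := by
    rw [Subgroup.map_le_iff_le_comap]
    conv_lhs => rw [hBd]
    rw [sup_le_iff, sup_le_iff, Subgroup.zpowers_le, Subgroup.zpowers_le, Subgroup.zpowers_le]
    refine ⟨?_, ?_, ?_⟩
    · show s * y * s⁻¹ ∈ B
      rw [← hy1]; exact m1
    · show s * y1 * s⁻¹ ∈ B
      rw [← hy2]; exact m2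
    · show s * y2 * s⁻¹ ∈ B
      rw [h3]; exact m0
  have hpow : ∀ n : ℕ, ∀ k ∈ B, s ^ n * k * (s ^ n)⁻¹ ∈ B := by
    intro n
    induction n with
    | zero => intro k hk; rw [pow_zero, one_mul, inv_one, mul_one]; exact hk
    | succ n ih =>
      intro k hk
      have h4 : s ^ (n + 1) * k * (s ^ (n + 1))⁻¹ = s ^ n * (s * k * s⁻¹) * (s ^ n)⁻¹ := by
        rw [pow_succ]; group
      rw [h4]
      exact ih _ (hconj ⟨k, hk, rfl⟩)
  have hn : Subgroup.zpowers s ≤ Subgroup.normalizer (B : Set W) := by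
    rw [Subgroup.zpowers_le, Subgroup.mem_normalizer_iff]
    intro k
    constructor
    · exact fun hk => hconj ⟨k, hk, rfl⟩
    · intro hk
      have h4 := hpow (p ^ j - 1) _ hk
      have hpj : 0 < p ^ j := pow_pos (Fact.out : p.Prime).pos j
      have h5 : s ^ (p ^ j - 1) = s⁻¹ := by
        refine eq_inv_of_mul_eq_one_left ?_
        rw [← pow_succ, Nat.sub_add_cancel hpj, hs]
      rw [h5] at h4
      have h6 : s⁻¹ * (s * k * s⁻¹) * s⁻¹⁻¹ = k := by group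
      rwa [h6] at h4
  exact ⟨Subgroup.zpowers s ⊔ B, (hz hs).to_sup_of_normal_right' hB hn, Subgroup.mem_sup_right m0,
    Subgroup.mem_sup_left (Subgroup.mem_zpowers s)⟩

section Core

variable {D : ChevalleyDatum} {l : ℕ} {M : CoxeterMatrix (Fin l)} (hp : IsType D l M)
  {W : Type*} [Group W] (cs : CoxeterSystem M W) {k : Type u} [Field k] {p : ℕ} [Fact p.Prime]

variable {hp cs} in
theorem aact_inv {c : W} {X : ↥(D.group k)} (h : AAct hp cs c X) {n : ℕ} (hn : 0 < n) (hX : X ^ n = 1) :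
    AAct hp cs c⁻¹ X⁻¹ := by
  have h1 : X⁻¹ = X ^ (n - 1) := by
    refine (eq_inv_of_mul_eq_one_left ?_).symm
    rw [← pow_succ, Nat.sub_add_cancel hn, hX]
  have h2 : ∀ t ∈ TT D k, X⁻¹ * t * X⁻¹⁻¹ ∈ TT D k := by
    intro t ht
    rw [h1]
    exact (h.pow (n - 1)).1 t ht
  refine ⟨h2, fun t ht x => ?_⟩
  have h3 := h.2 _ (h2 t ht) (rep cs hp.isCartan c⁻¹ x)
  have h4 : X * (X⁻¹ * t * X⁻¹⁻¹) * X⁻¹ = t := by group
  rw [h4, rep_apply_inv] at h3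
  exact h3.symm

theorem ev_neg_left {l p : ℕ} (b : Fin l → ZMod p) (x : Fin l → ℤ) : H778.Exc.ev (-b) x = -(H778.Exc.ev b x) := by
  unfold Cfsg.Agent.H778.Exc.ev
  rw [← Finset.sum_neg_distrib]
  exact Finset.sum_congr rfl fun i _ => by rw [Pi.neg_apply, mul_neg]

theorem ev_add_left {l p : ℕ} (b b' : Fin l → ZMod p) (x : Fin l → ℤ) :
    H778.Exc.ev (b + b') x = H778.Exc.ev b x + H778.Exc.ev b' x := by
  unfold Cfsg.Agent.H778.Exc.ev
  rw [← Finset.sum_add_distrib]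
  exact Finset.sum_congr rfl fun i _ => by rw [Pi.add_apply, mul_add]

/-- **A Sylow subgroup of the normaliser.** -/
theorem exists_R (hk : LocFin k) (r : ℕ) [Fact r.Prime] [CharP k r] {G0 : Type v} [Group G0] [Finite G0]
    {ψ : G0 →* ↥(D.group k)} (hψ : Function.Injective ψ) {C : Subgroup W} (hC : IsPGroup p C) :
    ∃ R : Subgroup G0, IsPGroup p R ∧ (∀ v : G0, ψ v ∈ TT D k → v ^ p = 1 → v ∈ R) ∧
      ∀ c ∈ C, ∀ X : G0, AAct hp cs c (ψ X) → ∃ Y ∈ R, AAct hp cs c (ψ Y) := by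
  let N1 : Subgroup G0 :=
    { carrier := {y | ∃ c ∈ C, AAct hp cs c (ψ y)}
      one_mem' := ⟨1, C.one_mem, by rw [map_one]; exact AAct.one⟩
      mul_mem' := by
        rintro x y ⟨c, hc, hx⟩ ⟨c', hc', hy⟩
        exact ⟨c * c', C.mul_mem hc hc', by rw [map_mul]; exact hx.mul hy⟩
      inv_mem' := by
        rintro x ⟨c, hc, hx⟩
        have h1 := hx.pow (orderOf x - 1)
        rw [← map_pow, ← inv_eq_pow] at h1
        exact ⟨_, C.pow_mem hc _, h1⟩ }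
  let N2 : Subgroup ↥N1 :=
    { carrier := {y | AAct hp cs (1 : W) (ψ y)}
      one_mem' := by
        show AAct hp cs (1 : W) (ψ 1)
        rw [map_one]
        exact AAct.one
      mul_mem' := by
        intro x y hx hy
        have h1 := AAct.mul hx hy
        rw [← map_mul, one_mul] at h1
        exact h1
      inv_mem' := by
        intro x hx
        have h1 := AAct.pow hx (orderOf (x : G0) - 1)
        rw [← map_pow, ← inv_eq_pow, one_pow] at h1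
        exact h1 }
  have hN2n : N2.Normal := ⟨by
    rintro y hy ⟨g, c, -, hg⟩
    have h1 := AAct.mul (AAct.mul hg hy) (hg.pow (orderOf g - 1))
    have h2 := hg.pow (orderOf g)
    rw [← map_pow, pow_orderOf_eq_one, map_one] at h2
    rw [← map_pow, ← inv_eq_pow, ← map_mul, ← map_mul, mul_one, ← pow_succ', Nat.sub_add_cancel (orderOf_pos g)] at h1
    exact aact_one_of h1 h2⟩
  let V0 : Subgroup ↥N1 :=
    { carrier := {y | ψ y ∈ TT D k ∧ y ^ p = 1}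
      one_mem' := ⟨by
        show ψ 1 ∈ TT D k
        rw [map_one]
        exact one_mem _, one_pow p⟩
      mul_mem' := by
        rintro x y ⟨hx, hx1⟩ ⟨hy, hy1⟩
        refine ⟨by
          show ψ (x * y) ∈ TT D k
          rw [map_mul]
          exact mul_mem hx hy, ?_⟩
        have hxy : Commute x y := by
          apply Subtype.ext
          apply hψ
          show ψ (x * y) = ψ (y * x)
          rw [map_mul, map_mul]
          exact TT_comm hp _ hx _ hy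
        rw [hxy.mul_pow, hx1, hy1, one_mul]
      inv_mem' := by
        rintro x ⟨hx, hx1⟩
        exact ⟨by
          show ψ (x : G0)⁻¹ ∈ TT D k
          rw [map_inv]
          exact inv_mem hx, by rw [inv_pow, hx1, inv_one]⟩ }
  have hV0n : V0.Normal := ⟨by
    rintro y ⟨hy, hy1⟩ ⟨g, c, -, hg⟩
    refine ⟨?_, by rw [conj_pow, hy1, mul_one, mul_inv_cancel]⟩
    show ψ (g * y * g⁻¹) ∈ TT D k
    rw [map_mul, map_mul, map_inv]
    exact hg.1 _ hy⟩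
  have hV0 : IsPGroup p ↥V0 := fun y => ⟨1, by
    rw [pow_one]
    exact Subtype.ext y.2.2⟩
  obtain ⟨R, hR, hVR, hcov⟩ := exists_cover N2 (fun x => by
    obtain ⟨c, hc, hx⟩ := x.2
    obtain ⟨j, hj⟩ := hC ⟨c, hc⟩
    refine ⟨j, ?_⟩
    have h1 := hx.pow (p ^ j)
    have h2 : c ^ p ^ j = 1 := congrArg Subtype.val hj
    rw [← map_pow, h2] at h1
    exact h1) V0 hV0
  refine ⟨R.map N1.subtype, hR.map _, fun v hv hv1 => ?_, fun c hc X hX => ?_⟩
  · exact ⟨⟨v, 1, C.one_mem, aact_torus hk r hv⟩, hVR ⟨hv, Subtype.ext hv1⟩, rfl⟩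
  · obtain ⟨z, hz, hzR⟩ := hcov ⟨X, c, hc, hX⟩
    refine ⟨X * z, ⟨_, hzR, rfl⟩, ?_⟩
    have h1 := hX.mul hz
    rwa [← map_mul, mul_one] at h1

/-- **`⁅⁅v, X⁆, ⁅X₁, X₂⁆⁆ ≠ 1`** -/
theorem dd_core {ζ : k} (hζ : orderOf ζ = p) (hk : LocFin k) (r : ℕ) [Fact r.Prime] [CharP k r] {G0 : Type v}
    [Group G0] [Finite G0] {ψ : G0 →* ↥(D.group k)} (hψ : Function.Injective ψ) {C : Subgroup W} (hC : IsPGroup p C)
    {c1 c2 c3 : W} (m1 : c1 ∈ C) (m2 : c2 ∈ C) (m3 : c3 ∈ C) {X1 X2 X3 : G0} (hX1 : AAct hp cs c1 (ψ X1))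
    (hX2 : AAct hp cs c2 (ψ X2)) (hX3 : AAct hp cs c3 (ψ X3)) {b b' : Fin l → ZMod p} {v : G0} (hv : ψ v ∈ TT D k)
    (hb : ∀ x, cX hp (ψ v) x = zz ζ (ev b x)) (hb' : b = b' + pull cs hp.isCartan b c3)
    (hne : pull cs hp.isCartan b' (c1 * c2 * c1⁻¹ * c2⁻¹) ≠ b') :
    ∃ R : Subgroup G0, IsPGroup p R ∧ ∃ x ∈ R, ∃ y ∈ R, ∃ z ∈ R, ∃ t ∈ R, ¬ Commute ⁅x, y⁆ ⁅z, t⁆ := by
  obtain ⟨R, hR, hV, hcov⟩ := exists_R hp cs (p := p) hk r hψ hC
  obtain ⟨Y1, n1, hY1⟩ := hcov c1 m1 X1 hX1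
  obtain ⟨Y2, n2, hY2⟩ := hcov c2 m2 X2 hX2
  obtain ⟨Y3, n3, hY3⟩ := hcov c3 m3 X3 hX3
  have hvp : v ^ p = 1 := hψ (by rw [map_pow, map_one]; exact pow_eq_one_of_fun hp hζ hv hb)
  have hinv : ∀ {c : W} {Y : G0}, AAct hp cs c (ψ Y) → AAct hp cs c⁻¹ (ψ Y⁻¹) := fun {c Y} h => by
    rw [map_inv]
    exact aact_inv h (orderOf_pos Y) (by rw [← map_pow, pow_orderOf_eq_one, map_one])
  refine ⟨R, hR, Y1, n1, Y2, n2, v, hV v hv hvp, Y3⁻¹, R.inv_mem n3, fun hcom => hne ?_⟩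
  have hD : AAct hp cs (c1 * c2 * c1⁻¹ * c2⁻¹) (ψ ⁅Y1, Y2⁆) := by
    rw [commutatorElement_def, map_mul, map_mul, map_mul]
    exact ((hY1.mul hY2).mul (hinv hY1)).mul (hinv hY2)
  -- the torus element `v Y3⁻¹ v⁻¹ Y3`
  have hvi : ψ v⁻¹ ∈ TT D k := by rw [map_inv]; exact inv_mem hv
  have h3 := hinv hY3
  have hT : ψ (Y3⁻¹ * v⁻¹ * Y3⁻¹⁻¹) ∈ TT D k := by
    rw [map_mul, map_mul, map_inv ψ Y3⁻¹]
    exact h3.1 _ hvi
  have hcv : ∀ x, cX hp (ψ v⁻¹) x = zz ζ (-(ev b x)) := by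
    intro x
    have h5 := cX_mul hp hv hvi x
    rw [← map_mul, mul_inv_cancel, map_one, cX_one, hb] at h5
    have h6 : zz ζ (ev b x) * zz ζ (-(ev b x)) = 1 := by rw [← zz_add hζ, add_neg_cancel, zz_zero]
    have h7 : zz ζ (ev b x) ≠ 0 := fun h => by rw [h, zero_mul] at h6; exact zero_ne_one h6
    exact mul_left_cancel₀ h7 (h5.symm.trans h6.symm)
  have hval : ∀ x, cX hp (ψ (Y3⁻¹ * v⁻¹ * Y3⁻¹⁻¹)) x = zz ζ (ev (-(pull cs hp.isCartan b c3)) x) := by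
    intro x
    have h4 := h3.2 _ hvi (rep cs hp.isCartan c3 x)
    rw [rep_inv_apply, hcv, ← ev_pull cs hp.isCartan b c3, ← ev_neg_left] at h4
    rw [map_mul, map_mul, map_inv ψ Y3⁻¹]
    exact h4
  have hT2 : ψ ⁅v, Y3⁻¹⁆ ∈ TT D k := by
    have e1 : ⁅v, Y3⁻¹⁆ = v * (Y3⁻¹ * v⁻¹ * Y3⁻¹⁻¹) := by rw [commutatorElement_def]; group
    rw [e1, map_mul]
    exact mul_mem hv hT
  have hval2 : ∀ x, cX hp (ψ ⁅v, Y3⁻¹⁆) x = zz ζ (ev b' x) := by
    intro x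
    have e1 : ⁅v, Y3⁻¹⁆ = v * (Y3⁻¹ * v⁻¹ * Y3⁻¹⁻¹) := by rw [commutatorElement_def]; group
    rw [e1, map_mul, cX_mul hp hv hT, hb, hval, ← zz_add hζ]
    congr 1
    have h5 : ev b x = ev b' x + ev (pull cs hp.isCartan b c3) x := by
      conv_lhs => rw [hb']
      exact ev_add_left _ _ x
    rw [h5, ev_neg_left, add_neg_cancel_right]
  refine (act_iff hp cs hζ hD hT2 hval2).1 ?_
  rw [← map_mul, ← map_mul, hcom.eq]

end Core

section Lang

variable {D : ChevalleyDatum} {l : ℕ} {M : CoxeterMatrix (Fin l)} (hp : IsType D l M)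
  {W : Type*} [Group W] (cs : CoxeterSystem M W) {k : Type u} [Field k] {r e : ℕ} [Fact r.Prime] [CharP k r]
  {σ : MulAut ↥(D.group k)} {g : (Fin l → ℤ) ≃+ (Fin l → ℤ)} {p : ℕ} [Fact p.Prime] {ζ : k} (hζ : orderOf ζ = p)

include hζ in
/-- **The twisted torus and its normaliser in the finite group.** -/
theorem exists_data [IsAlgClosed k] (hk : LocFin k) (he : 0 < e) (hσ : IsFrob r e σ)
    (F : Fr cs hp.isCartan (TT D k) (XX D l k) σ g) {d : ℕ} {B : Fin l → Fin l → ℤ} (hB : InvC D l d B) (hd : d ≠ 0)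
    {G0 : Type v} [Group G0] [Finite G0] {e0 : G0 →* ↥(D.group k)} (he0 : Function.Injective e0)
    (hrange : ∀ y, σ y = y → (∃ j : ℕ, y ^ p ^ j = 1) → y ∈ e0.range) (w : W)
    (hsep : Sep cs hp.isCartan (VT hp cs p w g (r ^ e))) :
    ∃ ψ : G0 →* ↥(D.group k), Function.Injective ψ ∧
      (∀ b ∈ VT hp cs p w g (r ^ e), ∃ s : G0, ψ s ∈ TT D k ∧ ∀ x, cX hp (ψ s) x = zz ζ (ev b x)) ∧
      ∀ (c : W) (j : ℕ), c ^ p ^ j = 1 → (∀ x, rep cs hp.isCartan c (theta hp cs w g x) =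
        theta hp cs w g (rep cs hp.isCartan c x)) → ∃ x0 : G0, AAct hp cs c (ψ x0) := by
  have hWf := finite_W hp cs
  let hN : NSys M (TT D k) (nc hp k) := nsys_of_locFin hp cs hk r
  obtain ⟨n, hn⟩ := exists_rp cs hN w
  obtain ⟨z, hz⟩ := lang_all hp cs he hσ F 1 n
  rw [map_one, one_mul] at hz
  have hσz : σ z = z * n := by rw [hz]; group
  have hconj : ∀ y, σ (z * y * z⁻¹) = z * (n * σ y * n⁻¹) * z⁻¹ := fun y => by
    rw [map_mul, map_mul, map_inv, hσz]; group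
  choose! tb htb1 htb2 using fun (b : Fin l → ZMod p) => exists_torus_elt hp hζ hB hd b
  have hτb : ∀ b ∈ VT hp cs p w g (r ^ e), n * σ (tb b) * n⁻¹ = tb b := by
    intro b hb
    rw [tau_iff hp cs hk hσ F hn (htb1 b)]
    intro x
    rw [htb2, htb2, hb x, zz_natCast_mul hζ]
  let ψ : G0 →* ↥(D.group k) := (MulAut.conj z⁻¹).toMonoidHom.comp e0
  have hψa : ∀ s, ψ s = z⁻¹ * e0 s * z := fun s => by
    show z⁻¹ * e0 s * z⁻¹⁻¹ = _
    rw [inv_inv]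
  refine ⟨ψ, (MulAut.conj z⁻¹).injective.comp he0, fun b hb => ?_, fun c j hcj hcθ => ?_⟩
  · obtain ⟨s, hs⟩ := hrange (z * tb b * z⁻¹) (by rw [hconj, hτb b hb]) ⟨1, by
      rw [pow_one, conj_pow, pow_eq_one_of_fun hp hζ (htb1 b) (htb2 b), mul_one, mul_inv_cancel]⟩
    have h1 : ψ s = tb b := by rw [hψa, hs]; group
    exact ⟨s, by rw [h1]; exact htb1 b, by rw [h1]; exact htb2 b⟩
  · obtain ⟨X0, hX0, hA0⟩ := exists_act hp cs hk he hσ F hn hcθ (S := tb '' (VT hp cs p w g (r ^ e)))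
      ((Set.toFinite _).image _) (by rintro _ ⟨b, -, rfl⟩; exact htb1 b)
      (fun x hx => by
        obtain ⟨b, hb, hb1⟩ := hsep.exists_ne hx
        exact ⟨_, ⟨b, hb, rfl⟩, by rw [htb2, Ne, zz_eq_one hζ]; exact hb1⟩)
      (fun w hw => hsep.eq_one fun b hb x hx => by
        have h1 := hw _ ⟨b, hb, rfl⟩ x hx
        rwa [htb2, htb2, zz_inj hζ] at h1) hB hd
    obtain ⟨X, hX, hA, i, hXi⟩ := exists_act_pow hp cs hk hcj hX0 hA0
    obtain ⟨x0, hx0⟩ := hrange (z * X * z⁻¹) (by rw [hconj, hX]) ⟨i, by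
      rw [conj_pow, hXi, mul_one, mul_inv_cancel]⟩
    have hψx : ψ x0 = X := by rw [hψa, hx0]; group
    exact ⟨x0, by rw [hψx]; exact hA⟩

end Lang

/-! ### certificates -/

/-- **the certificate**: `y` and its conjugates under `s` commute; `b' = b - b ∘ y` is moved by `⁅y, s⁆`. -/
structure DCert (l p : ℕ) (Al : List (List ℤ)) (w1 : List (Fin l)) (q : ℕ) (y s : List (Fin l)) (n : ℕ)
    (b b' : List ℤ) : Prop where
  lb : b.length = l
  lb' : b'.length = l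
  vt : ∀ i : Fin l, (dot (ac Al w1 (bas l i)) b - q * b.getD i 0) % p = 0
  o1 : ∀ i : Fin l, acn Al y n (bas l i) = bas l i
  o2 : ∀ i : Fin l, acn Al s n (bas l i) = bas l i
  t1 : ∀ i : Fin l, ac Al (y ++ w1) (bas l i) = ac Al (w1 ++ y) (bas l i)
  t2 : ∀ i : Fin l, ac Al (s ++ w1) (bas l i) = ac Al (w1 ++ s) (bas l i)
  w3 : ∀ i : Fin l, ac Al (s ++ (s ++ (s ++ y ++ s.reverse) ++ s.reverse) ++ s.reverse) (bas l i) = ac Al y (bas l i)
  w01 : ∀ i : Fin l, ac Al (y ++ (s ++ y ++ s.reverse)) (bas l i) = ac Al ((s ++ y ++ s.reverse) ++ y) (bas l i)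
  w02 : ∀ i : Fin l, ac Al (y ++ (s ++ (s ++ y ++ s.reverse) ++ s.reverse)) (bas l i) =
    ac Al ((s ++ (s ++ y ++ s.reverse) ++ s.reverse) ++ y) (bas l i)
  eb : ∀ i : Fin l, (b.getD i 0 - b'.getD i 0 - dot (ac Al y (bas l i)) b) % p = 0
  ne : ∃ i : Fin l, (dot (ac Al (y ++ s ++ y.reverse ++ s.reverse) (bas l i)) b' - b'.getD i 0) % p ≠ 0

section Cert

variable {D : ChevalleyDatum} {l p : ℕ} {Al : List (List ℤ)}
    {M : CoxeterMatrix (Fin l)} (hp : IsType D l M) {W : Type*} [Group W] (cs : CoxeterSystem M W)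
    (hA : MatList (cartanOf D l) Al)

theorem word_conj (y s : List (Fin l)) : cs.wordProd (s ++ y ++ s.reverse) =
    cs.wordProd s * cs.wordProd y * (cs.wordProd s)⁻¹ := by
  rw [CoxeterSystem.wordProd_append, CoxeterSystem.wordProd_append, CoxeterSystem.wordProd_reverse]

/-- **The untwisted groups.** -/
theorem DCert.untw {w1 y s : List (Fin l)} {q j : ℕ} {b b' : List ℤ} (H : DCert l p Al w1 q y s (p ^ j) b b')
    (hA : MatList (cartanOf D l) Al) (hsep : Sep cs hp.isCartan (VT hp cs p (cs.wordProd w1) (AddEquiv.refl _) q))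
    [Fact p.Prime] {F : Type u} [Field F] [Fintype F] (hpF : ¬ p ∣ Fintype.card F)
    (hq : ((Fintype.card F : ℕ) : ZMod p) = q) {d : ℕ} {B : Fin l → Fin l → ℤ}
    (hB : InvC D l d B) (hd : d ≠ 0) (hdF : p.Coprime d ∨ ∀ a : F, ∃ b : F, b ^ d = a) :
    ∃ R : Subgroup ↥(D.group F), IsPGroup p R ∧ ∃ x ∈ R, ∃ y ∈ R, ∃ z ∈ R, ∃ t ∈ R, ¬ Commute ⁅x, y⁆ ⁅z, t⁆ := by
  obtain ⟨r, e, hr, hcF, hck, he, hqe, hk⟩ := exists_closure (F := F) rfl
  have hpp : p.Prime := Fact.out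
  have hpr : p ≠ r := by
    rintro rfl
    exact hpF (by rw [hqe]; exact dvd_pow_self p he.ne')
  have hpk : ((p : ℕ) : AlgebraicClosure F) ≠ 0 := by
    rw [Ne, CharP.cast_eq_zero_iff (AlgebraicClosure F) r]
    exact fun h => hpr ((Nat.prime_dvd_prime_iff_eq hr.out hpp).1 h).symm
  have : NeZero ((p : ℕ) : AlgebraicClosure F) := ⟨hpk⟩
  obtain ⟨ζ, hζ'⟩ := HasEnoughRootsOfUnity.exists_primitiveRoot (AlgebraicClosure F) p
  have hζ : orderOf ζ = p := hζ'.eq_orderOf.symm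
  have hVT : VT hp cs p (cs.wordProd w1) (AddEquiv.refl _) (r ^ e) =
      VT hp cs p (cs.wordProd w1) (AddEquiv.refl _) q := VT_congr hp cs (by rw [← hqe]; exact hq)
  have hg : ∀ v : List ℤ, v.length = l → toFn l (id v) = (AddEquiv.refl (Fin l → ℤ)) (toFn l v) ∧
      (id v).length = l := fun v hv => ⟨rfl, hv⟩
  have hth : ∀ c : W, Commute c (cs.wordProd w1) → ∀ x, rep cs hp.isCartan c
      (theta hp cs (cs.wordProd w1) (AddEquiv.refl _) x) =
      theta hp cs (cs.wordProd w1) (AddEquiv.refl _) (rep cs hp.isCartan c x) := by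
    intro c hc x
    rw [theta_apply, theta_apply, AddEquiv.refl_apply, AddEquiv.refl_apply, ← rep_mul_apply, hc.eq, rep_mul_apply]
  obtain ⟨ψ, hψ, hV, hX⟩ := exists_data hp cs hζ hk he
    (isFrob_phi (D := D) (k := AlgebraicClosure F) (p := r) (e := e))
    (fr_phi (p := r) (e := e) hp cs) hB hd (e0 := emb hp.inList (algebraMap F (AlgebraicClosure F)))
    (emb_injective hp.inList _) (fun y hy hyj => by
      rcases hdF with h | h
      · obtain ⟨i, hi⟩ := hyj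
        exact H130.TorEmb.mem_range_of_pow hp cs _ hqe hB hd (Nat.Coprime.pow_left i h) hy hi
      · exact fix_range hp cs _ hqe hB hd h hy) (cs.wordProd w1) (by rw [hVT]; exact hsep)
  have e1 := word_pow hp cs hA H.o1
  have e2 := word_pow hp cs hA H.o2
  have hw3 := wordProd_eq hp cs hA H.w3
  have hw01 := word_comm hp cs hA H.w01
  have hw02 := word_comm hp cs hA H.w02
  rw [word_conj, word_conj, word_conj] at hw3
  rw [word_conj] at hw01
  rw [word_conj, word_conj] at hw02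
  obtain ⟨C, hC, m1, m2⟩ := isPGroup_wr e1 e2 hw3 hw01 hw02
  obtain ⟨x1, hx1⟩ := hX _ j e1 (hth _ (word_comm hp cs hA H.t1))
  obtain ⟨x2, hx2⟩ := hX _ j e2 (hth _ (word_comm hp cs hA H.t2))
  obtain ⟨v, hv, hv'⟩ := hV (RCert.fa l p b) (by rw [hVT]; exact MCert.mem_VT hp cs hA hg H.lb H.vt)
  refine dd_core hp cs hζ hk r hψ hC m1 m2 m1 hx1 hx2 hx1 hv hv' (b' := RCert.fa l p b') ?_ ?_
  · funext i
    rw [Pi.add_apply, pull_fa hp cs hA H.lb]
    have h3 := H.eb i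
    rw [← Int.dvd_iff_emod_eq_zero, ← ZMod.intCast_zmod_eq_zero_iff_dvd, Int.cast_sub, sub_eq_zero,
      Int.cast_sub, sub_eq_iff_eq_add] at h3
    rw [add_comm]
    exact h3
  · have h4 := pull_ne hp cs hA H.lb' H.ne
    rwa [CoxeterSystem.wordProd_append, CoxeterSystem.wordProd_append, CoxeterSystem.wordProd_append,
      CoxeterSystem.wordProd_reverse, CoxeterSystem.wordProd_reverse] at h4

end Cert

theorem dc_E7_2 : DCert 7 3 alE7
    [0, 3, 5, 2, 4, 1, 6, 0, 3, 5, 2, 4, 1, 6, 0, 3, 5, 2, 4, 1, 6, 0, 3, 5, 2, 4, 1, 6, 0, 3, 5, 2, 4, 1, 6, 0, 3,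
    5, 2, 4, 1, 6, 0, 3, 5, 2, 4, 1, 6, 0, 3, 5, 2, 4, 1, 6, 0, 3, 5, 2, 4, 1, 6] 2
    [0, 2] [3, 2, 1, 3, 4, 5, 0, 2, 3, 4, 1, 3] (3 ^ 1) [1, 0, 0, 0, 0, 0, 0] [1, 0, 1, 2, 0, 0, 0] where
  lb := rfl
  lb' := rfl
  vt := by decide +kernel
  o1 := by decide +kernel
  o2 := by decide +kernel
  t1 := by decide +kernel
  t2 := by decide +kernel
  w3 := by decide +kernel
  w01 := by decide +kernel
  w02 := by decide +kernel
  eb := by decide +kernel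
  ne := by decide +kernel

theorem dc_E8_2 : DCert 8 3 alE8
    [0, 3, 5, 7, 2, 4, 1, 6, 0, 3, 5, 7, 2, 4, 1, 6, 0, 3, 5, 7, 2, 4, 1, 6, 0, 3, 5, 7, 2, 4, 1, 6, 0, 3, 5, 7, 2,
    4, 1, 6, 0, 3, 5, 7, 2, 4, 1, 6, 0, 3, 5, 7, 2, 4, 1, 6, 0, 3, 5, 7, 2, 4, 1, 6, 0, 3, 5, 7, 2, 4, 1, 6, 0, 3,
    5, 7, 2, 4, 1, 6, 0, 3, 5, 7, 2, 4, 1, 6, 0, 3, 5, 7, 2, 4, 1, 6, 0, 3, 5, 7, 2, 4, 1, 6, 0, 3, 5, 7, 2, 4, 1,
    6, 0, 3, 5, 7, 2, 4, 1, 6] 2
    [0, 2] [3, 2, 1, 3, 4, 5, 0, 2, 3, 4, 1, 3] (3 ^ 1) [1, 0, 0, 0, 0, 0, 0, 0] [1, 0, 1, 2, 0, 0, 0, 0] where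
  lb := rfl
  lb' := rfl
  vt := by decide +kernel
  o1 := by decide +kernel
  o2 := by decide +kernel
  t1 := by decide +kernel
  t2 := by decide +kernel
  w3 := by decide +kernel
  w01 := by decide +kernel
  w02 := by decide +kernel
  eb := by decide +kernel
  ne := by decide +kernel

section Rows

variable {F : Type u} [Field F] [Fintype F]

/-- **`E₇(q)`, `p = 3 ∣ q + 1`** -/
theorem row3_e7_two (h : Fintype.card F % 3 = 2) : H316.HT.Row 3 ↥(chevE7.group F) := by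
  have : Fact (Nat.Prime 3) := ⟨Nat.prime_three⟩
  have h0 : ((Fintype.card F : ℕ) : ZMod 3) = (2 : ℕ) := by
    rw [ZMod.natCast_eq_natCast_iff']
    omega
  obtain ⟨R, hR, x, hx, y, hy, z, hz, t, ht, hne⟩ := dc_E7_2.untw type_E7 CoxeterMatrix.E₇.toCoxeterSystem lists_E7
    (mc_E7_2.sepVT type_E7 CoxeterMatrix.E₇.toCoxeterSystem lists_E7 rootList_E7 (g := AddEquiv.refl _)
      (fun v hv => ⟨rfl, hv⟩)) (F := F) (by omega) h0 invC_E7 two_ne_zero (Or.inl (by norm_num))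
  exact H681.IP.row_of_derived_mem Nat.prime_three R hR hx hy hz ht hne

/-- **`E₈(q)`, `p = 3 ∣ q + 1`** -/
theorem row3_e8_two (h : Fintype.card F % 3 = 2) : H316.HT.Row 3 ↥(chevE8.group F) := by
  have : Fact (Nat.Prime 3) := ⟨Nat.prime_three⟩
  have h0 : ((Fintype.card F : ℕ) : ZMod 3) = (2 : ℕ) := by
    rw [ZMod.natCast_eq_natCast_iff']
    omega
  obtain ⟨R, hR, x, hx, y, hy, z, hz, t, ht, hne⟩ := dc_E8_2.untw type_E8 CoxeterMatrix.E₈.toCoxeterSystem lists_E8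
    (mc_E8_2.sepVT type_E8 CoxeterMatrix.E₈.toCoxeterSystem lists_E8 rootList_E8 (g := AddEquiv.refl _)
      (fun v hv => ⟨rfl, hv⟩)) (F := F) (by omega) h0 invC_E8 one_ne_zero (Or.inl (by norm_num))
  exact H681.IP.row_of_derived_mem Nat.prime_three R hR hx hy hz ht hne

end Rows

end Cfsg.Agent.H421.HT
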